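import Cfsg.Agent.Lib.Spor.SpFour.Build

/-!
# The model from generators

A quaternion group with an element of order three permuting its generators, and an involution carrying it
to a copy commuting with it, give the coordinates of the centralizer of an involution of `PSp₄(3)`.
-/

set_option autoImplicit false
set_option maxRecDepth 20000

namespace CfsgLib.Spor.SpFour

open Subgroup CfsgLib.Spor.UFourType

namespace SlGen

/-- Exponents of an element. -/
abbrev Tup : Type := Bool × Bool × Bool × Fin 3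

/-- The exponents of a matrix, by number. -/
def tTbl : List ℕ := [0, 6, 3, 9, 1, 2, 20, 19, 5, 22, 23, 4, 12, 18, 15, 21, 13, 14, 8, 7, 17, 10, 11, 16]

/-- The exponents of a matrix. -/
def tup (n : ℕ) : Tup :=
  let k := tTbl.getD n 0
  (k / 12 % 2 == 1, k / 6 % 2 == 1, k / 3 % 2 == 1, ⟨k % 3, Nat.mod_lt _ (by norm_num)⟩)

/-- Multiplying by the element of order three. -/
def sY : Tup → Tup := fun ⟨e, a, b, c⟩ => (e, a, b, c + 1)

/-- Multiplying by the first generator of the quaternion group. -/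
def sU : Tup → Tup := fun ⟨e, a, b, c⟩ =>
  if c = 0 then (e ^^ a ^^ b, !a, b, c)
  else if c = 1 then (e ^^ b, a, !b, c)
  else (e ^^ a, !a, !b, c)

/-- Multiplying by the second generator. -/
def sV (t : Tup) : Tup := sY (sY (sU (sY t)))

/-- The product. -/
def mulT : Tup → Tup → Tup := fun t ⟨e, a, b, c⟩ =>
  let t₁ := if e then sU (sU t) else t
  let t₂ := if a then sU t₁ else t₁
  let t₃ := if b then sV t₂ else t₂
  sY^[c.1] t₃

theorem tup_mul : ∀ a < 24, ∀ b < 24, tup (sMul a b) = mulT (tup a) (tup b) := by decide +kernel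

theorem normal_neg : ∀ a : Sl, a ≠ 1 →
    ∃ g : Sl, a = -1 ∨ a * g * a⁻¹ * g⁻¹ = -1 ∨ a * g * a⁻¹ * g⁻¹ * (a * g * a⁻¹ * g⁻¹) = -1 := by
  decide +kernel

theorem central : ∀ a : Sl, (∀ g : Sl, a * g = g * a) → a = 1 ∨ a = -1 := by decide +kernel

theorem tup_facts : tup (num (-1 : Sl)).1 = (true, false, false, 0) := by decide +kernel

variable {G : Type*} [Group G]

/-- The relations. -/
structure Rels (z u v y : G) : Prop where
  uu : u * u = z
  zz : z * z = 1
  vu : v * u = z * (u * v)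
  y3 : y * y * y = 1
  yu : y * u * y⁻¹ = v
  yv : y * v * y⁻¹ = u * v

/-- The element with given exponents. -/
def nf (z u v y : G) : Tup → G := fun ⟨e, a, b, c⟩ =>
  cond e z 1 * cond a u 1 * cond b v 1 * y ^ c.1

variable {z u v y : G} (R : Rels z u v y)
include R

theorem basic : y * u = v * y ∧ y * v = u * v * y ∧ u * z = z * u ∧ y * z = z * y ∧ v * v = z ∧ v * z = z * v := by
  have h1 : y * u = v * y := mul_inv_eq_iff_eq_mul.1 R.yu
  have h2 : y * v = u * v * y := mul_inv_eq_iff_eq_mul.1 R.yv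
  have h3 : u * z = z * u := by rw [← R.uu, mul_assoc]
  have hvv : v * v = y * z * y⁻¹ := by rw [← R.yu, ← R.uu]; group
  have hvz : v * z * v⁻¹ = z := by
    have e : v * u * v⁻¹ = z * u := by rw [R.vu]; group
    calc v * z * v⁻¹ = v * u * v⁻¹ * (v * u * v⁻¹) := by rw [← R.uu]; group
      _ = z * (u * z) * u := by rw [e]; group
      _ = z * z * (u * u) := by rw [h3]; group
      _ = z := by rw [R.zz, R.uu, one_mul]
  have hvz' : v * z = z * v := mul_inv_eq_iff_eq_mul.1 hvz
  have hyz' : v * v * (v * v) = 1 := by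
    rw [hvv, show y * z * y⁻¹ * (y * z * y⁻¹) = y * (z * z) * y⁻¹ by group, R.zz]; group
  have huv : u * v * (u * v) = v * v := by
    calc u * v * (u * v) = u * (v * u) * v := by group
      _ = (u * z) * u * (v * v) := by rw [R.vu]; group
      _ = z * (u * u) * (v * v) := by rw [h3]; group
      _ = v * v := by rw [R.uu, R.zz, one_mul]
  have hy2 : y * (v * v) * y⁻¹ = v * v := by
    rw [show y * (v * v) * y⁻¹ = y * v * y⁻¹ * (y * v * y⁻¹) by group, R.yv, huv]
  have hz : v * v = z := by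
    calc v * v = y * (y * (v * v) * y⁻¹) * y⁻¹ := by rw [hy2, hy2]
      _ = y * (y * (y * z * y⁻¹) * y⁻¹) * y⁻¹ := by rw [hvv]
      _ = (y * y * y) * z * (y * y * y)⁻¹ := by group
      _ = z := by rw [R.y3]; group
  refine ⟨h1, h2, h3, ?_, hz, hvz'⟩
  exact mul_inv_eq_iff_eq_mul.1 (hvv.symm.trans hz)

theorem nf_sY (t : Tup) : nf z u v y t * y = nf z u v y (sY t) := by
  obtain ⟨e, a, b, c⟩ := t
  simp only [nf, sY]
  fin_cases c <;> simp [mul_assoc, pow_succ, show y * (y * y) = 1 by rw [← mul_assoc]; exact R.y3]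

theorem nf_sU (t : Tup) : nf z u v y t * u = nf z u v y (sU t) := by
  obtain ⟨yu, yv, uz, yz, vv, vz⟩ := basic R
  have uu' : ∀ x, u * (u * x) = z * x := fun x => by rw [← mul_assoc, R.uu]
  have vv' : ∀ x, v * (v * x) = z * x := fun x => by rw [← mul_assoc, vv]
  have zz' : ∀ x, z * (z * x) = x := fun x => by rw [← mul_assoc, R.zz, one_mul]
  have uz' : ∀ x, u * (z * x) = z * (u * x) := fun x => by rw [← mul_assoc, uz, mul_assoc]
  have vz' : ∀ x, v * (z * x) = z * (v * x) := fun x => by rw [← mul_assoc, vz, mul_assoc]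
  have vu' : ∀ x, v * (u * x) = z * (u * (v * x)) := fun x => by rw [← mul_assoc, R.vu, mul_assoc, mul_assoc]
  have yu' : ∀ x, y * (u * x) = v * (y * x) := fun x => by rw [← mul_assoc, yu, mul_assoc]
  have yv' : ∀ x, y * (v * x) = u * (v * (y * x)) := fun x => by rw [← mul_assoc, yv, mul_assoc, mul_assoc]
  obtain ⟨e, a, b, c⟩ := t
  simp only [nf, sU]
  fin_cases c <;> cases e <;> cases a <;> cases b <;>
    simp [mul_assoc, pow_succ, R.uu, vv, R.zz, uz, vz, R.vu, yu, yv, uu', vv', zz', uz', vz', vu', yu', yv']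

theorem nf_sV (t : Tup) : nf z u v y t * v = nf z u v y (sV t) := by
  have hyi : y⁻¹ = y * y := inv_eq_of_mul_eq_one_right (by rw [← mul_assoc]; exact R.y3)
  rw [sV, ← nf_sY R, ← nf_sY R, ← nf_sU R, ← nf_sY R, ← R.yu, hyi]
  group

theorem nf_mul (s t : Tup) : nf z u v y s * nf z u v y t = nf z u v y (mulT s t) := by
  have hz : ∀ (e : Bool) r, nf z u v y r * cond e z 1 = nf z u v y (if e then sU (sU r) else r) := by
    intro e r
    cases e
    · simp
    · rw [if_pos rfl, ← nf_sU R, ← nf_sU R, mul_assoc _ u u, R.uu]; rfl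
  have hu : ∀ (e : Bool) r, nf z u v y r * cond e u 1 = nf z u v y (if e then sU r else r) := by
    intro e r
    cases e
    · simp
    · rw [if_pos rfl, ← nf_sU R]; rfl
  have hv : ∀ (e : Bool) r, nf z u v y r * cond e v 1 = nf z u v y (if e then sV r else r) := by
    intro e r
    cases e
    · simp
    · rw [if_pos rfl, ← nf_sV R]; rfl
  have hy : ∀ (k : ℕ) r, nf z u v y r * y ^ k = nf z u v y (sY^[k] r) := by
    intro k
    induction k with
    | zero => intro r; simp
    | succ k ih => intro r; rw [pow_succ, ← mul_assoc, ih, nf_sY R, Function.iterate_succ_apply']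
  obtain ⟨e, a, b, c⟩ := t
  show nf z u v y s * (cond e z 1 * cond a u 1 * cond b v 1 * y ^ c.1) = _
  rw [← mul_assoc, ← mul_assoc, ← mul_assoc, hz, hu, hv, hy]
  rfl

/-- The homomorphism from the special linear group. -/
def hom : Sl →* G :=
  MonoidHom.mk' (fun s => nf z u v y (tup (num s).1)) fun a b => by
    show nf z u v y (tup (num (a * b)).1) = nf z u v y (tup (num a).1) * nf z u v y (tup (num b).1)
    rw [nf_mul R, ← tup_mul _ (num a).2 _ (num b).2]
    have hl : sMul (num a).1 (num b).1 < 24 := UFourType.sMul_lt _ (num a).2 _ (num b).2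
    have : sl (sMul (num a).1 (num b).1) = sl (num (a * b)).1 := by
      rw [sl_mul _ (num a).2 _ (num b).2, sl_num, sl_num, sl_num]
    rw [sl_injective _ hl _ (num (a * b)).2 this]

theorem hom_neg : hom R (-1) = z := by
  show nf z u v y (tup (num (-1 : Sl)).1) = z
  rw [tup_facts]
  simp [nf]

theorem hom_injective (hz1 : z ≠ 1) : Function.Injective (hom R) := by
  refine (injective_iff_map_eq_one _).2 fun a ha => ?_
  by_contra h
  obtain ⟨g, hg⟩ := normal_neg a h
  refine hz1 ((hom_neg R).symm.trans ?_)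
  rcases hg with e | e | e <;> rw [← e] <;> simp [map_mul, ha]

theorem hom_mem {H : Subgroup G} (hu : u ∈ H) (hv : v ∈ H) (hy : y ∈ H) (a : Sl) : hom R a ∈ H := by
  have hm : ∀ (b : Bool) x, x ∈ H → cond b x 1 ∈ H := fun b x hx => by
    cases b
    · exact one_mem _
    · exact hx
  exact mul_mem (mul_mem (mul_mem (hm _ _ (R.uu ▸ mul_mem hu hu)) (hm _ _ hu)) (hm _ _ hv)) (pow_mem hy _)

end SlGen

/-- The coordinates from generators. -/
theorem Model.of_gens {G : Type*} [Group G] [Finite G] {z u v y b : G} (hz : orderOf z = 2)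
    (hcard : Nat.card (centralizer ({z} : Set G)) = 576) (R : SlGen.Rels z u v y)
    (hbb : b * b = 1) (hbz : b * z = z * b)
    (hc : ∀ x ∈ ({u, v, y} : Set G), ∀ x' ∈ ({u, v, y} : Set G), x * (b * x' * b) = b * x' * b * x) :
    ∃ ψ : ℕ → G, Model z ψ := by
  classical
  set f₁ := SlGen.hom R with hf₁
  have hbi : b⁻¹ = b := inv_eq_of_mul_eq_one_right hbb
  have hcj : ∀ x, b * x * b⁻¹ = b * x * b := fun x => by rw [hbi]
  let f₂ : Sl →* G := (MulAut.conj b).toMonoidHom.comp f₁
  have hf₂ : ∀ a, f₂ a = b * f₁ a * b := fun a => hcj _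
  have hz1 : z ≠ 1 := fun e => by rw [e, orderOf_one] at hz; norm_num at hz
  have hz₁ : f₁ (-1) = z := SlGen.hom_neg R
  have hz₂ : f₂ (-1) = z := by rw [hf₂, hz₁, hbz, mul_assoc, hbb, mul_one]
  have hcomm : ∀ a a', f₁ a * f₂ a' = f₂ a' * f₁ a := by
    intro a a'
    have key : ∀ x ∈ ({u, v, y} : Set G), x * f₂ a' = f₂ a' * x := by
      intro x hx
      have hsub : f₁ a' ∈ (centralizer ({x} : Set G)).map (MulAut.conj b).toMonoidHom := by
        have hm : ∀ w ∈ ({u, v, y} : Set G), w ∈ (centralizer ({x} : Set G)).map (MulAut.conj b).toMonoidHom := by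
          intro w hw
          refine ⟨b * w * b, mem_centralizer_singleton_iff.2 (hc x hx w hw).symm, ?_⟩
          show b * (b * w * b) * b⁻¹ = w
          rw [hbi, ← mul_assoc, ← mul_assoc, hbb, one_mul, mul_assoc, hbb, mul_one]
        exact SlGen.hom_mem R (hm _ (by simp)) (hm _ (by simp)) (hm _ (by simp)) a'
      obtain ⟨w, hw, hwe⟩ := hsub
      have : f₂ a' = w := by
        rw [hf₂, ← hwe, MulEquiv.coe_toMonoidHom, MulAut.conj_apply, hbi, ← mul_assoc, ← mul_assoc, hbb, one_mul,
          mul_assoc, hbb, mul_one]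
      rw [this]
      exact (mem_centralizer_singleton_iff.1 hw).symm
    have : f₁ a ∈ centralizer ({f₂ a'} : Set G) :=
      SlGen.hom_mem R (mem_centralizer_singleton_iff.2 (key _ (by simp)))
        (mem_centralizer_singleton_iff.2 (key _ (by simp))) (mem_centralizer_singleton_iff.2 (key _ (by simp))) a
    exact mem_centralizer_singleton_iff.1 this
  have hi₁ := SlGen.hom_injective R hz1
  have hi₂ : Function.Injective f₂ := (MulAut.conj b).injective.comp hi₁
  let F : Sl × Sl →* G := MonoidHom.mk' (fun w => f₁ w.1 * f₂ w.2) fun w w' => by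
    show f₁ (w.1 * w'.1) * f₂ (w.2 * w'.2) = f₁ w.1 * f₂ w.2 * (f₁ w'.1 * f₂ w'.2)
    rw [map_mul, map_mul]
    calc f₁ w.1 * f₁ w'.1 * (f₂ w.2 * f₂ w'.2) = f₁ w.1 * (f₁ w'.1 * f₂ w.2) * f₂ w'.2 := by group
      _ = f₁ w.1 * (f₂ w.2 * f₁ w'.1) * f₂ w'.2 := by rw [hcomm]
      _ = _ := by group
  have hk : ∀ w : Sl × Sl, F w = 1 ↔ w = 1 ∨ w = (-1, -1) := by
    rintro ⟨a, a'⟩
    constructor
    · intro h
      change f₁ a * f₂ a' = 1 at h
      have hcen : ∀ g, a * g = g * a := fun g => hi₁ (by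
        have e : f₁ a = (f₂ a')⁻¹ := eq_inv_of_mul_eq_one_left h
        rw [map_mul, map_mul, e]
        exact (((show Commute (f₁ g) (f₂ a') from hcomm g a').inv_right).eq).symm)
      rcases SlGen.central a hcen with rfl | rfl
      · rw [map_one, one_mul] at h
        exact Or.inl (Prod.ext rfl (hi₂ (h.trans (map_one f₂).symm)))
      · rw [hz₁] at h
        refine Or.inr (Prod.ext rfl (hi₂ ?_))
        rw [hz₂]
        calc f₂ a' = z⁻¹ := eq_inv_of_mul_eq_one_right h
          _ = z := inv_eq_of_mul_eq_one_right R.zz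
    · rintro (h | h)
      · rw [h, map_one]
      · rw [h]
        show f₁ (-1) * f₂ (-1) = 1
        rw [hz₁, hz₂, R.zz]
  have hrange : Nat.card F.range = 288 := by
    have h := F.ker.card_mul_index
    rw [index_ker, Nat.card_prod, Nat.card_eq_fintype_card (α := Sl), card_sl] at h
    have h2 : Nat.card F.ker = 2 := by
      have : (F.ker : Set (Sl × Sl)) = {1, (-1, -1)} := by ext w; simp [hk]
      rw [← SetLike.coe_sort_coe, Nat.card_coe_set_eq, this, Set.ncard_pair]
      decide
    rw [h2] at h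
    omega
  have hbP : b ∉ F.range := by
    rintro ⟨⟨a, a'⟩, h⟩
    have key : ∀ g, f₂ g = f₁ (a * g * a⁻¹) := fun g => by
      rw [hf₂]
      conv_lhs => rw [show b * f₁ g * b = b * f₁ g * b⁻¹ by rw [hbi], ← h]
      show f₁ a * f₂ a' * f₁ g * (f₁ a * f₂ a')⁻¹ = _
      rw [mul_inv_rev, mul_assoc (f₁ a) (f₂ a'), ← hcomm g a', map_mul, map_mul, map_inv]
      group
    have : ∀ g, ∀ x : Sl, x * g = g * x := fun g x => hi₁ (by
      have e := hcomm x (a⁻¹ * g * a)
      rw [key, show a * (a⁻¹ * g * a) * a⁻¹ = g by group] at e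
      rw [map_mul, map_mul]; exact e)
    revert this
    decide +kernel
  have hle : F.range ≤ centralizer ({z} : Set G) := by
    rintro _ ⟨⟨a, a'⟩, rfl⟩
    refine mem_centralizer_singleton_iff.2 ?_
    show f₁ a * f₂ a' * z = z * (f₁ a * f₂ a')
    rw [mul_assoc]
    conv_lhs => rw [← hz₁, ← hcomm (-1) a', hz₁, ← mul_assoc, ← hz₂, hcomm a (-1), hz₂, mul_assoc]
  have hsurj : ∀ g ∈ centralizer ({z} : Set G), ∃ a a', g = f₁ a * f₂ a' ∨ g = f₁ a * f₂ a' * b := by
    intro g hg
    by_cases hgP : g ∈ F.range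
    · obtain ⟨⟨a, a'⟩, rfl⟩ := hgP
      exact ⟨a, a', Or.inl rfl⟩
    have hi : (F.range.subgroupOf (centralizer ({z} : Set G))).index = 2 := by
      have h := (F.range.subgroupOf (centralizer ({z} : Set G))).card_mul_index
      rw [Nat.card_congr (subgroupOfEquivOfLe hle).toEquiv, hrange, hcard] at h
      omega
    have hbC : b ∈ centralizer ({z} : Set G) := mem_centralizer_singleton_iff.2 hbz
    have := (Subgroup.mul_mem_iff_of_index_two hi (a := ⟨g, hg⟩) (b := ⟨b, hbC⟩)).2
      (iff_of_false (by simpa [mem_subgroupOf] using hgP) (by simpa [mem_subgroupOf] using hbP))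
    obtain ⟨⟨a, a'⟩, e⟩ := (mem_subgroupOf.1 this : g * b ∈ F.range)
    refine ⟨a, a', Or.inr ?_⟩
    rw [show f₁ a * f₂ a' = g * b from e, mul_assoc, hbb, mul_one]
  exact Model.of_coords hz f₁ f₂ hcomm hz₁ hz₂ hbb (fun a => (hf₂ a).symm) hcard hsurj

end CfsgLib.Spor.SpFour
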